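import Cfsg.Agent.H56.Exc.Full
import Cfsg.Agent.H436.Names

/-!
# Overgroups of a torus element: interface of TEAM WEIGEL (helper56)

`Over x P` : every proper subgroup `H` containing `x` normalises `⟨x⟩`, or has a simple normal subgroup `S ∋ x` with
trivial centraliser in `H` and a name satisfying `P`.
-/

set_option autoImplicit false

namespace Cfsg.Agent.H56.Wei

open Cfsg Cfsg.Agent.OrdDiv Cfsg.Agent.H436

/-- the overgroups of `x` -/
def Over {T : Type*} [Group T] (x : T) (P : Grp → Prop) : Prop :=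
  ∀ H : Subgroup T, ∀ hx : x ∈ H, H ≠ ⊤ → H ≤ Subgroup.normalizer (Subgroup.zpowers x : Set T) ∨
    ∃ (S : Subgroup H) (_ : S.Normal) (_ : IsSimpleGroup S), ¬ IsMulCommutative S ∧
      Subgroup.centralizer (S : Set H) = ⊥ ∧ (⟨x, hx⟩ : H) ∈ S ∧ ∃ g, P g ∧ IsNamed g S

end Cfsg.Agent.H56.Wei
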